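import Mathlib

set_option linter.unusedSectionVars false
set_option linter.unusedVariables false
set_option linter.unusedSimpArgs false
set_option autoImplicit false
set_option maxHeartbeats 400000

noncomputable section

namespace Groth.Agent.Lib.Helper6.WStab

open WeierstrassCurve

variable {k : Type*} [Field k]

lemma mem_stab_iff (h2 : (2 : k) ≠ 0) (h3 : (3 : k) ≠ 0) (W : WeierstrassCurve k) [W.IsShortNF]
    (C : VariableChange k) :
    C • W = W ↔ C.r = 0 ∧ C.s = 0 ∧ C.t = 0 ∧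
      ((C.u⁻¹ : kˣ) : k) ^ 4 * W.a₄ = W.a₄ ∧ ((C.u⁻¹ : kˣ) : k) ^ 6 * W.a₆ = W.a₆ := by
  have hu : ((C.u⁻¹ : kˣ) : k) ≠ 0 := Units.ne_zero _
  have e1 := W.a₁_of_isShortNF
  have e2 := W.a₂_of_isShortNF
  have e3 := W.a₃_of_isShortNF
  constructor
  · intro h
    have k1 : (C • W).a₁ = W.a₁ := by rw [h]
    have k2 : (C • W).a₂ = W.a₂ := by rw [h]
    have k3 : (C • W).a₃ = W.a₃ := by rw [h]
    have k4 : (C • W).a₄ = W.a₄ := by rw [h]
    have k6 : (C • W).a₆ = W.a₆ := by rw [h]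
    rw [variableChange_a₁] at k1
    rw [variableChange_a₂] at k2
    rw [variableChange_a₃] at k3
    rw [variableChange_a₄] at k4
    rw [variableChange_a₆] at k6
    rw [e1] at k1 k2 k3 k4 k6
    rw [e2] at k2 k4 k6
    rw [e3] at k3 k4 k6
    have hs : C.s = 0 := by
      have : 2 * C.s = 0 := by
        have := k1
        simp only [zero_add] at this
        exact (mul_eq_zero.mp this).resolve_left hu
      exact (mul_eq_zero.mp this).resolve_left h2
    have hr : C.r = 0 := by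
      rw [hs] at k2
      have : 3 * C.r = 0 := by
        have h' : ((C.u⁻¹ : kˣ) : k) ^ 2 * (3 * C.r) = 0 := by linear_combination k2
        exact (mul_eq_zero.mp h').resolve_left (pow_ne_zero _ hu)
      exact (mul_eq_zero.mp this).resolve_left h3
    have ht : C.t = 0 := by
      have : 2 * C.t = 0 := by
        have h' : ((C.u⁻¹ : kˣ) : k) ^ 3 * (2 * C.t) = 0 := by linear_combination k3
        exact (mul_eq_zero.mp h').resolve_left (pow_ne_zero _ hu)
      exact (mul_eq_zero.mp this).resolve_left h2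
    refine ⟨hr, hs, ht, ?_, ?_⟩
    · rw [hr, hs, ht] at k4
      linear_combination k4
    · rw [hr, ht] at k6
      linear_combination k6
  · rintro ⟨hr, hs, ht, h4, h6⟩
    ext
    · rw [variableChange_a₁, e1, hs]; ring
    · rw [variableChange_a₂, e1, e2, hs, hr]; ring
    · rw [variableChange_a₃, e1, e3, hr, ht]; ring
    · rw [variableChange_a₄, e1, e2, e3, hr, hs, ht]; linear_combination h4
    · rw [variableChange_a₆, e1, e2, e3, hr, ht]; linear_combination h6

/-- The stabiliser of a short Weierstrass curve is isomorphic to a group of roots of unity. -/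
def stabEquiv (h2 : (2 : k) ≠ 0) (h3 : (3 : k) ≠ 0) (W : WeierstrassCurve k) [W.IsShortNF]
    (n : ℕ)
    (hn : ∀ u : kˣ, (((u⁻¹ : kˣ) : k) ^ 4 * W.a₄ = W.a₄ ∧ ((u⁻¹ : kˣ) : k) ^ 6 * W.a₆ = W.a₆)
      ↔ u ^ n = 1) :
    ↥(MulAction.stabilizer (VariableChange k) W) ≃* ↥(rootsOfUnity n k) where
  toFun C := ⟨C.1.u, by
    rw [mem_rootsOfUnity]
    have := (mem_stab_iff h2 h3 W C.1).mp C.2
    exact (hn _).mp ⟨this.2.2.2.1, this.2.2.2.2⟩⟩
  invFun ζ := ⟨⟨ζ.1, 0, 0, 0⟩, by
    rw [MulAction.mem_stabilizer_iff, mem_stab_iff h2 h3]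
    have := (hn ζ.1).mpr ((mem_rootsOfUnity _ _).mp ζ.2)
    exact ⟨rfl, rfl, rfl, this.1, this.2⟩⟩
  left_inv C := by
    have := (mem_stab_iff h2 h3 W C.1).mp C.2
    apply Subtype.ext
    ext
    · rfl
    · exact this.1.symm
    · exact this.2.1.symm
    · exact this.2.2.1.symm
  right_inv ζ := by
    apply Subtype.ext
    rfl
  map_mul' C C' := by
    apply Subtype.ext
    rfl

lemma result_aux [IsAlgClosed k] (h2 : (2 : k) ≠ 0) (h3 : (3 : k) ≠ 0)
    (W : WeierstrassCurve k) [W.IsShortNF] (n : ℕ) [NeZero (n : k)]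
    (hn : ∀ u : kˣ, (((u⁻¹ : kˣ) : k) ^ 4 * W.a₄ = W.a₄ ∧ ((u⁻¹ : kˣ) : k) ^ 6 * W.a₆ = W.a₆)
      ↔ u ^ n = 1) :
    IsCyclic ↥(MulAction.stabilizer (VariableChange k) W) ∧
      Nat.card ↥(MulAction.stabilizer (VariableChange k) W) = n := by
  have : NeZero n := .of_neZero_natCast k
  let e := stabEquiv h2 h3 W n hn
  refine ⟨?_, ?_⟩
  · exact (MulEquiv.isCyclic e).mpr (HasEnoughRootsOfUnity.rootsOfUnity_isCyclic k n)
  · rw [Nat.card_congr e.toEquiv]
    exact HasEnoughRootsOfUnity.natCard_rootsOfUnity k n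

lemma inv_pow_eq_one_iff (u : kˣ) (m : ℕ) : ((u⁻¹ : kˣ) : k) ^ m = 1 ↔ u ^ m = 1 := by
  rw [← Units.val_pow_eq_pow_val, Units.val_eq_one, inv_pow, inv_eq_one]

theorem main [IsAlgClosed k] (h2 : (2 : k) ≠ 0) (h3 : (3 : k) ≠ 0)
    (W : WeierstrassCurve k) [W.IsShortNF] (hΔ : W.Δ ≠ 0) :
    IsCyclic ↥(MulAction.stabilizer (WeierstrassCurve.VariableChange k) W) ∧
      (W.a₄ = 0 → Nat.card ↥(MulAction.stabilizer (WeierstrassCurve.VariableChange k) W) = 6) ∧
      (W.a₆ = 0 → Nat.card ↥(MulAction.stabilizer (WeierstrassCurve.VariableChange k) W) = 4) ∧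
      (W.a₄ ≠ 0 → W.a₆ ≠ 0 →
        Nat.card ↥(MulAction.stabilizer (WeierstrassCurve.VariableChange k) W) = 2) := by
  have hne : ¬ (W.a₄ = 0 ∧ W.a₆ = 0) := by
    rintro ⟨h4, h6⟩
    apply hΔ
    simp [WeierstrassCurve.Δ, WeierstrassCurve.b₂, WeierstrassCurve.b₄, WeierstrassCurve.b₆,
      WeierstrassCurve.b₈, W.a₁_of_isShortNF, W.a₂_of_isShortNF, W.a₃_of_isShortNF, h4, h6]
  have n2 : NeZero ((2 : ℕ) : k) := ⟨by exact_mod_cast h2⟩
  have n4 : NeZero ((4 : ℕ) : k) := ⟨by
    have : ((4 : ℕ) : k) = 2 * 2 := by norm_num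
    rw [this]; exact mul_ne_zero h2 h2⟩
  have n6 : NeZero ((6 : ℕ) : k) := ⟨by
    have : ((6 : ℕ) : k) = 2 * 3 := by norm_num
    rw [this]; exact mul_ne_zero h2 h3⟩
  by_cases h4 : W.a₄ = 0
  · have h6 : W.a₆ ≠ 0 := fun h => hne ⟨h4, h⟩
    have key := result_aux h2 h3 W 6 (by
      intro u
      rw [h4, mul_zero]
      constructor
      · rintro ⟨-, h⟩
        have : ((u⁻¹ : kˣ) : k) ^ 6 = 1 := by
          have h' : (((u⁻¹ : kˣ) : k) ^ 6 - 1) * W.a₆ = 0 := by linear_combination h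
          have := (mul_eq_zero.mp h').resolve_right h6
          linear_combination this
        exact (inv_pow_eq_one_iff u 6).mp this
      · intro h
        refine ⟨rfl, ?_⟩
        rw [(inv_pow_eq_one_iff u 6).mpr h, one_mul])
    exact ⟨key.1, fun _ => key.2, fun h => absurd h h6, fun h => absurd h4 h⟩
  · by_cases h6 : W.a₆ = 0
    · have key := result_aux h2 h3 W 4 (by
        intro u
        rw [h6, mul_zero]
        constructor
        · rintro ⟨h, -⟩
          have : ((u⁻¹ : kˣ) : k) ^ 4 = 1 := by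
            have h' : (((u⁻¹ : kˣ) : k) ^ 4 - 1) * W.a₄ = 0 := by linear_combination h
            have := (mul_eq_zero.mp h').resolve_right h4
            linear_combination this
          exact (inv_pow_eq_one_iff u 4).mp this
        · intro h
          refine ⟨?_, rfl⟩
          rw [(inv_pow_eq_one_iff u 4).mpr h, one_mul])
      exact ⟨key.1, fun h => absurd h h4, fun _ => key.2, fun _ h => absurd h6 h⟩
    · have key := result_aux h2 h3 W 2 (by
        intro u
        constructor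
        · rintro ⟨h, h'⟩
          have e4 : ((u⁻¹ : kˣ) : k) ^ 4 = 1 := by
            have h'' : (((u⁻¹ : kˣ) : k) ^ 4 - 1) * W.a₄ = 0 := by linear_combination h
            have := (mul_eq_zero.mp h'').resolve_right h4
            linear_combination this
          have e6 : ((u⁻¹ : kˣ) : k) ^ 6 = 1 := by
            have h'' : (((u⁻¹ : kˣ) : k) ^ 6 - 1) * W.a₆ = 0 := by linear_combination h'
            have := (mul_eq_zero.mp h'').resolve_right h6
            linear_combination this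
          have e2 : ((u⁻¹ : kˣ) : k) ^ 2 = 1 := by
            have : ((u⁻¹ : kˣ) : k) ^ 6 = ((u⁻¹ : kˣ) : k) ^ 4 * ((u⁻¹ : kˣ) : k) ^ 2 := by ring
            rw [e6, e4, one_mul] at this
            exact this.symm
          exact (inv_pow_eq_one_iff u 2).mp e2
        · intro h
          have e2 := (inv_pow_eq_one_iff u 2).mpr h
          have e4 : ((u⁻¹ : kˣ) : k) ^ 4 = 1 := by
            have : ((u⁻¹ : kˣ) : k) ^ 4 = (((u⁻¹ : kˣ) : k) ^ 2) ^ 2 := by ring
            rw [this, e2, one_pow]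
          have e6 : ((u⁻¹ : kˣ) : k) ^ 6 = 1 := by
            have : ((u⁻¹ : kˣ) : k) ^ 6 = (((u⁻¹ : kˣ) : k) ^ 2) ^ 3 := by ring
            rw [this, e2, one_pow]
          rw [e4, e6, one_mul, one_mul]
          exact ⟨rfl, rfl⟩)
      exact ⟨key.1, fun h => absurd h h4, fun h => absurd h h6, fun _ _ => key.2⟩

end Groth.Agent.Lib.Helper6.WStab
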